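import Mathlib
import Cfsg.Agent.Lib.Helper1.Commutator
import Cfsg.Agent.Lib.Helper1.CoprimeAbelian
import Cfsg.Agent.Lib.Helper23.Transitivity2
import Cfsg.Agent.Lib.Helper61.Coprime
import Cfsg.Agent.Lib.Helper61.Norm
import Cfsg.Agent.Lib.Helper87.OmegaLemma
import Cfsg.Agent.Lib.Helper91.Coprime2
import Cfsg.Agent.Lib.Helper97.FrobFormula
import Cfsg.Agent.Lib.Helper97.SectMod

/-!
# Frobenius actions on `p`-groups (package F of the S1428 project)

`Q` and `R` are subgroups of a finite group normalizing the `p`-subgroup `T`; `R` has prime order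
`r ≠ p`, normalizes the `p'`-group `Q` and `C_Q(R) = 1` (so `QR` is a Frobenius group).

* `frob_card`: `|C_T(QR)| ^ r * |T| = |C_T(R)| ^ r * |C_T(Q)|`.
* `frob_F0'`, `frob_F0`: if `Q` does not centralize `T`, some element of `C_T(R)` is not
  centralized by `Q`.
* `frob_F`: if `C_T(R)` is cyclic and `C_T(QR) ≠ 1`, then `Q` centralizes `T`.
-/

set_option autoImplicit false

namespace Cfsg.Agent.Lib.Helper68.BG

open scoped commutatorElement

universe u

variable {G : Type u} [Group G]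

/-- The centralizer of a join. -/
theorem centralizer_sup_eq (Q R : Subgroup G) :
    Subgroup.centralizer ((Q ⊔ R : Subgroup G) : Set G) =
      Subgroup.centralizer (Q : Set G) ⊓ Subgroup.centralizer (R : Set G) := by
  apply le_antisymm
  · exact le_inf (Subgroup.centralizer_le (le_sup_left : Q ≤ Q ⊔ R))
      (Subgroup.centralizer_le (le_sup_right : R ≤ Q ⊔ R))
  · intro x hx
    obtain ⟨hxQ, hxR⟩ := Subgroup.mem_inf.mp hx
    have h1 : Q ≤ Subgroup.centralizer ({x} : Set G) := by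
      intro q hq
      rw [Subgroup.mem_centralizer_iff]
      intro y hy
      rw [Set.mem_singleton_iff] at hy
      rw [hy]
      exact (Subgroup.mem_centralizer_iff.mp hxQ q hq).symm
    have h2 : R ≤ Subgroup.centralizer ({x} : Set G) := by
      intro q hq
      rw [Subgroup.mem_centralizer_iff]
      intro y hy
      rw [Set.mem_singleton_iff] at hy
      rw [hy]
      exact (Subgroup.mem_centralizer_iff.mp hxR q hq).symm
    rw [Subgroup.mem_centralizer_iff]
    intro y hy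
    have h3 := Subgroup.mem_centralizer_iff.mp ((sup_le h1 h2) hy) x (Set.mem_singleton x)
    exact h3.symm

/-- The normalizer of a subgroup normalizes its centralizer. -/
theorem normalizer_le_normalizer_centralizer (Q : Subgroup G) :
    Subgroup.normalizer (Q : Set G) ≤
      Subgroup.normalizer ((Subgroup.centralizer (Q : Set G) : Subgroup G) : Set G) := by
  apply Cfsg.Agent.Lib.Helper23.le_normalizer_of_conj_mem'
  intro g hg x hx
  rw [Subgroup.mem_centralizer_iff] at hx ⊢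
  intro h hh
  have h1 : g⁻¹ * h * g ∈ Q := by
    have := (Subgroup.mem_normalizer_iff.mp (Subgroup.inv_mem _ hg) h).mp hh
    rwa [inv_inv] at this
  have h2 := hx _ h1
  calc h * (g * x * g⁻¹) = g * ((g⁻¹ * h * g) * x) * g⁻¹ := by group
    _ = g * (x * (g⁻¹ * h * g)) * g⁻¹ := by rw [h2]
    _ = g * x * g⁻¹ * h := by group

section
variable [Finite G]

/-- **Fixed point formula** for the Frobenius group `QR` acting on the `p`-group `T`. -/
theorem frob_card {p r : ℕ} [Fact p.Prime] (T Q R : Subgroup G) (hT : IsPGroup p T)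
    (hQT : Q ≤ Subgroup.normalizer (T : Set G)) (hRT : R ≤ Subgroup.normalizer (T : Set G))
    (hQp : (Nat.card Q).Coprime p) (hR : Nat.card R = r) (hr : r.Prime) (hrp : r ≠ p)
    (hRQ : R ≤ Subgroup.normalizer (Q : Set G))
    (hCQR : Q ⊓ Subgroup.centralizer (R : Set G) = ⊥) :
    Nat.card ↥(T ⊓ (Subgroup.centralizer (Q : Set G) ⊓ Subgroup.centralizer (R : Set G))) ^ r *
        Nat.card T =
      Nat.card ↥(T ⊓ Subgroup.centralizer (R : Set G)) ^ r *
        Nat.card ↥(T ⊓ Subgroup.centralizer (Q : Set G)) := by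
  have hp : p.Prime := Fact.out
  have hUn : ∀ e ∈ R, ∀ u ∈ Q, e * u * e⁻¹ ∈ Q :=
    fun e he u hu => (Subgroup.mem_normalizer_iff.mp (hRQ he) u).mp hu
  have hfpf : ∀ e ∈ R, e ≠ 1 → ∀ u ∈ Q, e * u = u * e → u = 1 := by
    intro e he he1 u hu heu
    have hRe : R = Subgroup.zpowers e :=
      Cfsg.Agent.Lib.Helper61.eq_zpowers_of_prime_card hr R hR he he1
    have h1 : u ∈ Subgroup.centralizer ({e} : Set G) := by
      rw [Subgroup.mem_centralizer_iff]
      intro y hy
      rw [Set.mem_singleton_iff] at hy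
      rw [hy]
      exact heu
    have h2 : u ∈ Subgroup.centralizer (R : Set G) := by
      rw [hRe]
      exact Cfsg.Agent.Lib.Helper61.centralizer_singleton_le_centralizer_zpowers e h1
    have h3 : u ∈ Q ⊓ Subgroup.centralizer (R : Set G) := ⟨hu, h2⟩
    rw [hCQR] at h3
    exact Subgroup.mem_bot.mp h3
  have hR1 : R ≠ ⊥ := by
    rintro rfl
    rw [Subgroup.card_bot] at hR
    exact hr.one_lt.ne hR
  have hnil : Group.IsNilpotent Q :=
    Cfsg.Agent.Lib.Helper97.FrobFormula.nilpotent_of_fpf Q R hR1 hUn hfpf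
  have hsolv : Group.IsSolvable T := by
    have : Group.IsNilpotent T := hT.isNilpotent
    infer_instance
  have hcop : Nat.Coprime (Nat.card T) (Nat.card ↥(Q ⊔ R)) := by
    obtain ⟨n, hn⟩ := IsPGroup.iff_card.mp hT
    rw [hn]
    apply Nat.Coprime.pow_left
    rw [Nat.Prime.coprime_iff_not_dvd hp]
    intro hdvd
    have h1 := Cfsg.Agent.Lib.Helper91.card_sup_mul_card_inf_of_le_normalizer Q R hRQ
    have h2 : p ∣ Nat.card Q * Nat.card R := by
      rw [← h1]
      exact Dvd.dvd.mul_right hdvd _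
    rcases (Nat.Prime.dvd_mul hp).mp h2 with h | h
    · exact (Nat.Prime.coprime_iff_not_dvd hp).mp hQp.symm h
    · rw [hR] at h
      exact hrp ((Nat.prime_dvd_prime_iff_eq hp hr).mp h).symm
  have h := Cfsg.Agent.Lib.Helper97.FrobFormula.frob_formula Q R T hUn hfpf hnil
    (sup_le hQT hRT) hsolv hcop
  rw [centralizer_sup_eq, hR] at h
  exact h

/-- **Lemma F0** (centralizer form): if `Q` centralizes `C_T(R)` then `Q` centralizes `T`. -/
theorem frob_F0' {p r : ℕ} [Fact p.Prime] (T Q R : Subgroup G) (hT : IsPGroup p T)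
    (hQT : Q ≤ Subgroup.normalizer (T : Set G)) (hRT : R ≤ Subgroup.normalizer (T : Set G))
    (hQp : (Nat.card Q).Coprime p) (hR : Nat.card R = r) (hr : r.Prime) (hrp : r ≠ p)
    (hRQ : R ≤ Subgroup.normalizer (Q : Set G))
    (hCQR : Q ⊓ Subgroup.centralizer (R : Set G) = ⊥)
    (hle : T ⊓ Subgroup.centralizer (R : Set G) ≤ Subgroup.centralizer (Q : Set G)) :
    Q ≤ Subgroup.centralizer (T : Set G) := by
  have h := frob_card T Q R hT hQT hRT hQp hR hr hrp hRQ hCQR
  have e : T ⊓ (Subgroup.centralizer (Q : Set G) ⊓ Subgroup.centralizer (R : Set G)) =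
      T ⊓ Subgroup.centralizer (R : Set G) := by
    apply le_antisymm
    · exact inf_le_inf le_rfl inf_le_right
    · exact le_inf inf_le_left (le_inf hle inf_le_right)
  rw [e] at h
  have hpos : 0 < Nat.card ↥(T ⊓ Subgroup.centralizer (R : Set G)) ^ r :=
    Nat.pos_of_ne_zero (pow_ne_zero _ Nat.card_pos.ne')
  have h1 : Nat.card T = Nat.card ↥(T ⊓ Subgroup.centralizer (Q : Set G)) :=
    Nat.eq_of_mul_eq_mul_left hpos h
  have h2 : T ⊓ Subgroup.centralizer (Q : Set G) = T :=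
    Subgroup.eq_of_le_of_card_ge inf_le_left h1.le
  have h3 : T ≤ Subgroup.centralizer (Q : Set G) := by
    rw [← h2]
    exact inf_le_right
  exact Subgroup.le_centralizer_iff.mp h3

/-- **Lemma F0**: if `Q` does not centralize `T`, some element of `C_T(R)` is not centralized
by `Q`. -/
theorem frob_F0 {p r : ℕ} [Fact p.Prime] (T Q R : Subgroup G) (hT : IsPGroup p T)
    (hQT : Q ≤ Subgroup.normalizer (T : Set G)) (hRT : R ≤ Subgroup.normalizer (T : Set G))
    (hQp : (Nat.card Q).Coprime p) (hR : Nat.card R = r) (hr : r.Prime) (hrp : r ≠ p)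
    (hRQ : R ≤ Subgroup.normalizer (Q : Set G))
    (hCQR : Q ⊓ Subgroup.centralizer (R : Set G) = ⊥)
    (hTQ : ¬ Q ≤ Subgroup.centralizer (T : Set G)) :
    ∃ u ∈ T ⊓ Subgroup.centralizer (R : Set G), ¬ ∀ q ∈ Q, q * u = u * q := by
  by_contra hcon
  apply hTQ
  apply frob_F0' T Q R hT hQT hRT hQp hR hr hrp hRQ hCQR
  intro u hu
  rw [Subgroup.mem_centralizer_iff]
  intro q hq
  by_contra hne
  exact hcon ⟨u, hu, fun h => hne (h q hq)⟩

/-- Coprime action on an abelian section: if `D = ⁅D, Q⁆` and `D / N` is abelian, then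
`C_D(Q) ≤ N`. -/
theorem inf_centralizer_le_of_commutator_eq (D Q N : Subgroup G)
    (hQD : Q ≤ Subgroup.normalizer (D : Set G)) (hQN : Q ≤ Subgroup.normalizer (N : Set G))
    (hDN : D ≤ Subgroup.normalizer (N : Set G))
    (hab : ⁅D, D⁆ ≤ N) (hcop : (Nat.card Q).Coprime (Nat.card D)) (hgen : ⁅D, Q⁆ = D) :
    D ⊓ Subgroup.centralizer (Q : Set G) ≤ N := by
  classical
  haveI hnorm : (N.subgroupOf D).Normal := Subgroup.normal_subgroupOf_of_le_normalizer hDN
  letI cg : CommGroup (↥D ⧸ N.subgroupOf D) :=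
    { (inferInstance : Group (↥D ⧸ N.subgroupOf D)) with
      mul_comm := Cfsg.Agent.Lib.Helper97.SectMod.section_comm D N hab }
  letI act : MulDistribMulAction ↥Q (↥D ⧸ N.subgroupOf D) :=
    Cfsg.Agent.Lib.Helper97.SectMod.sectAct Q D N hQD hQN
  have : Fintype ↥Q := Fintype.ofFinite _
  let θ : (↥D ⧸ N.subgroupOf D) →* (↥D ⧸ N.subgroupOf D) :=
    ∏ a : ↥Q, MulDistribMulAction.toMonoidHom (↥D ⧸ N.subgroupOf D) a
  have hθ : ∀ v : ↥D ⧸ N.subgroupOf D, θ v = ∏ a : ↥Q, a • v := fun v => by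
    rw [MonoidHom.finsetProd_apply]
    rfl
  have hcomp : ∀ (b : ↥Q) (v : ↥D ⧸ N.subgroupOf D), θ (b • v) = θ v := by
    intro b v
    rw [hθ, hθ]
    have h1 : ∀ a : ↥Q, a • b • v = (a * b) • v := fun a => (mul_smul a b v).symm
    simp_rw [h1]
    exact Equiv.prod_comp (Equiv.mulRight b) (fun a => a • v)
  have hconj : ∀ q ∈ Q, ∀ d ∈ D, q * d * q⁻¹ ∈ D :=
    fun q hq d hd => (Subgroup.mem_normalizer_iff.mp (hQD hq) d).mp hd
  -- every commutator `⁅d, q⁆` maps into the kernel of `θ`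
  have hK : ⁅D, Q⁆ ≤ (θ.ker.comap (QuotientGroup.mk' (N.subgroupOf D))).map D.subtype := by
    rw [Subgroup.commutator_le]
    intro d hd q hq
    refine Subgroup.mem_map.mpr
      ⟨(⟨d, hd⟩ : ↥D) * (⟨q * d * q⁻¹, hconj q hq d hd⟩ : ↥D)⁻¹, ?_, ?_⟩
    · rw [Subgroup.mem_comap, MonoidHom.mem_ker, map_mul, map_inv, map_mul, map_inv]
      have h1 : (QuotientGroup.mk' (N.subgroupOf D)) (⟨q * d * q⁻¹, hconj q hq d hd⟩ : ↥D) =
          (⟨q, hq⟩ : ↥Q) • (QuotientGroup.mk' (N.subgroupOf D)) (⟨d, hd⟩ : ↥D) := rfl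
      rw [h1, hcomp, mul_inv_cancel]
    · rw [commutatorElement_def]
      simp [mul_assoc]
  intro c hc
  obtain ⟨hcD, hcQ⟩ := Subgroup.mem_inf.mp hc
  have hc' : c ∈ (θ.ker.comap (QuotientGroup.mk' (N.subgroupOf D))).map D.subtype := by
    apply hK
    rw [hgen]
    exact hcD
  obtain ⟨y, hy, hyc⟩ := Subgroup.mem_map.mp hc'
  have hyc' : (y : G) = c := hyc
  rw [Subgroup.mem_comap, MonoidHom.mem_ker] at hy
  have hfix : ∀ a : ↥Q, a • (QuotientGroup.mk' (N.subgroupOf D)) y =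
      (QuotientGroup.mk' (N.subgroupOf D)) y := by
    intro a
    have h1 : a • (QuotientGroup.mk' (N.subgroupOf D)) y =
        (QuotientGroup.mk' (N.subgroupOf D))
          (⟨(a : G) * y * (a : G)⁻¹, hconj a a.2 y y.2⟩ : ↥D) := rfl
    rw [h1]
    congr 1
    apply Subtype.ext
    change (a : G) * (y : G) * (a : G)⁻¹ = (y : G)
    rw [hyc']
    have h2 := Subgroup.mem_centralizer_iff.mp hcQ (a : G) a.2
    rw [h2, mul_inv_cancel_right]
  have hpow : ((QuotientGroup.mk' (N.subgroupOf D)) y) ^ Fintype.card ↥Q = 1 := by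
    rw [← hy, hθ]
    simp_rw [hfix]
    rw [Finset.prod_const, Finset.card_univ]
  have hpowN : c ^ Nat.card ↥Q ∈ N := by
    rw [← map_pow, QuotientGroup.mk'_apply, QuotientGroup.eq_one_iff, Subgroup.mem_subgroupOf,
      Subgroup.coe_pow, hyc', ← Nat.card_eq_fintype_card] at hpow
    exact hpow
  have hpowD : c ^ Nat.card ↥D ∈ N := by
    have h1 : (⟨c, hcD⟩ : ↥D) ^ Nat.card ↥D = 1 := pow_card_eq_one'
    have h2 : c ^ Nat.card ↥D = 1 := by
      have := congrArg Subtype.val h1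
      rwa [Subgroup.coe_pow] at this
    rw [h2]
    exact N.one_mem
  exact Cfsg.Agent.Lib.Helper87.mem_of_pow_mem_of_coprime N hpowN hpowD hcop

/-- In a cyclic `p`-group two nontrivial elements have a common nontrivial power. -/
theorem exists_common_zpowers {K : Type*} [Group K] [Finite K] [IsCyclic K] {p : ℕ}
    [Fact p.Prime] (hK : IsPGroup p K) {w u : K} (hw : w ≠ 1) (hu : u ≠ 1) :
    ∃ z : K, z ≠ 1 ∧ z ∈ Subgroup.zpowers w ∧ z ∈ Subgroup.zpowers u := by
  classical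
  have hp : p.Prime := Fact.out
  have : Fintype K := Fintype.ofFinite K
  have key : ∀ x : K, x ≠ 1 → ∃ z ∈ Subgroup.zpowers x, orderOf z = p := by
    intro x hx
    have hPx : IsPGroup p ↥(Subgroup.zpowers x) := hK.to_subgroup _
    obtain ⟨n, hn⟩ := IsPGroup.iff_card.mp hPx
    have hn0 : n ≠ 0 := by
      rintro rfl
      rw [pow_zero] at hn
      have h1 : Subgroup.zpowers x = ⊥ := Subgroup.card_eq_one.mp hn
      rw [Subgroup.zpowers_eq_bot] at h1
      exact hx h1
    have hdvd : p ∣ Nat.card ↥(Subgroup.zpowers x) := by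
      rw [hn]
      exact dvd_pow_self p hn0
    obtain ⟨z, hz⟩ := exists_prime_orderOf_dvd_card' (G := ↥(Subgroup.zpowers x)) p hdvd
    exact ⟨z, z.2, by rw [← hz, Subgroup.orderOf_coe]⟩
  obtain ⟨z₁, hz₁w, hz₁⟩ := key w hw
  obtain ⟨z₂, hz₂u, hz₂⟩ := key u hu
  have hz₂1 : z₂ ≠ 1 := by
    rintro rfl
    rw [orderOf_one] at hz₂
    exact hp.one_lt.ne hz₂
  refine ⟨z₂, hz₂1, ?_, hz₂u⟩
  have hF := IsCyclic.card_pow_eq_one_le (α := K) hp.pos
  have hsub : (Finset.univ.filter (fun a : K => a ∈ Subgroup.zpowers z₁)) ⊆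
      Finset.univ.filter (fun a : K => a ^ p = 1) := by
    intro a ha
    rw [Finset.mem_filter] at ha ⊢
    refine ⟨Finset.mem_univ _, ?_⟩
    obtain ⟨k, rfl⟩ := Subgroup.mem_zpowers_iff.mp ha.2
    rw [← zpow_natCast, ← zpow_mul, mul_comm, zpow_mul, zpow_natCast, ← hz₁, pow_orderOf_eq_one,
      one_zpow]
  have hcard : (Finset.univ.filter (fun a : K => a ∈ Subgroup.zpowers z₁)).card = p := by
    rw [← hz₁, ← Nat.card_zpowers, Nat.card_eq_fintype_card, Fintype.card_subtype]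
  have heq := Finset.eq_of_subset_of_card_le hsub (by rw [hcard]; exact hF)
  have hz₂F : z₂ ∈ Finset.univ.filter (fun a : K => a ^ p = 1) := by
    rw [Finset.mem_filter]
    exact ⟨Finset.mem_univ _, by rw [← hz₂, pow_orderOf_eq_one]⟩
  rw [← heq, Finset.mem_filter] at hz₂F
  exact (Subgroup.zpowers_le.mpr hz₁w) hz₂F.2

/-- **Lemma F**: if `C_T(R)` is cyclic and `C_T(QR) ≠ 1`, then `Q` centralizes `T`. -/
theorem frob_F {p r : ℕ} [Fact p.Prime] (T Q R : Subgroup G) (hT : IsPGroup p T)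
    (hQT : Q ≤ Subgroup.normalizer (T : Set G)) (hRT : R ≤ Subgroup.normalizer (T : Set G))
    (hQp : (Nat.card Q).Coprime p) (hR : Nat.card R = r) (hr : r.Prime) (hrp : r ≠ p)
    (hRQ : R ≤ Subgroup.normalizer (Q : Set G))
    (hCQR : Q ⊓ Subgroup.centralizer (R : Set G) = ⊥)
    (hcyc : IsCyclic ↥(T ⊓ Subgroup.centralizer (R : Set G)))
    (hfix : T ⊓ Subgroup.centralizer (Q : Set G) ⊓ Subgroup.centralizer (R : Set G) ≠ ⊥) :
    Q ≤ Subgroup.centralizer (T : Set G) := by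
  classical
  have hp : p.Prime := Fact.out
  by_contra hcon
  -- a minimal `QR`-invariant subgroup of `T` not centralized by `Q`
  obtain ⟨D, -, hDmin⟩ := Finite.exists_le_minimal
    (p := fun D : Subgroup G => D ≤ T ∧ Q ≤ Subgroup.normalizer (D : Set G) ∧
      R ≤ Subgroup.normalizer (D : Set G) ∧ ¬ Q ≤ Subgroup.centralizer (D : Set G)) (a := T)
    ⟨le_rfl, hQT, hRT, hcon⟩
  obtain ⟨⟨hDT, hQD, hRD, hQnD⟩, hmin'⟩ := hDmin
  have hmin : ∀ S : Subgroup G, S ≤ D → Q ≤ Subgroup.normalizer (S : Set G) →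
      R ≤ Subgroup.normalizer (S : Set G) → S ≠ D → Q ≤ Subgroup.centralizer (S : Set G) := by
    intro S hSD hQS hRS hne
    by_contra h
    exact hne (le_antisymm hSD (hmin' ⟨hSD.trans hDT, hQS, hRS, h⟩ hSD))
  have hDp : IsPGroup p D := hT.to_le hDT
  have hcopQ : (Nat.card Q).Coprime (Nat.card D) := by
    obtain ⟨n, hn⟩ := IsPGroup.iff_card.mp hDp
    rw [hn]
    exact Nat.Coprime.pow_right n hQp
  have hcopR : (Nat.card R).Coprime (Nat.card D) := by
    obtain ⟨n, hn⟩ := IsPGroup.iff_card.mp hDp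
    rw [hn, hR]
    exact Nat.Coprime.pow_right n ((Nat.coprime_primes hr hp).mpr hrp)
  have hsolvD : Group.IsSolvable D := by
    have : Group.IsNilpotent D := hDp.isNilpotent
    infer_instance
  have hD1 : D ≠ ⊥ := by
    rintro rfl
    apply hQnD
    intro q _
    rw [Subgroup.mem_centralizer_iff]
    intro h hh
    have h1 : h = 1 := hh
    rw [h1, one_mul, mul_one]
  -- the subgroup `C = C_D(Q)` contains every proper `QR`-invariant subgroup of `D`
  obtain ⟨C, hCdef⟩ : ∃ C : Subgroup G, C = D ⊓ Subgroup.centralizer (Q : Set G) := ⟨_, rfl⟩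
  have hCD : C ≤ D := hCdef ▸ inf_le_left
  have hCQ : C ≤ Subgroup.centralizer (Q : Set G) := hCdef ▸ inf_le_right
  have hQC : Q ≤ Subgroup.normalizer (C : Set G) := by
    rw [hCdef]
    exact (le_inf hQD (Subgroup.le_normalizer.trans (normalizer_le_normalizer_centralizer Q))).trans
      (Cfsg.Agent.Lib.Helper61.normalizer_inf_le_normalizer_inf _ _)
  have hRC : R ≤ Subgroup.normalizer (C : Set G) := by
    rw [hCdef]
    exact (le_inf hRD (hRQ.trans (normalizer_le_normalizer_centralizer Q))).trans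
      (Cfsg.Agent.Lib.Helper61.normalizer_inf_le_normalizer_inf _ _)
  have hleC : ∀ S : Subgroup G, S ≤ D → Q ≤ Subgroup.normalizer (S : Set G) →
      R ≤ Subgroup.normalizer (S : Set G) → S ≠ D → S ≤ C := by
    intro S hSD hQS hRS hne
    rw [hCdef]
    exact le_inf hSD (Subgroup.le_centralizer_iff.mp (hmin S hSD hQS hRS hne))
  -- `D' ≤ C`
  have hD'C : ⁅D, D⁆ ≤ C := by
    apply hleC
    · exact Cfsg.Agent.Lib.Helper1.commutator_le_of_le_normalizer Subgroup.le_normalizer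
    · exact (le_inf hQD hQD).trans
        (Cfsg.Agent.Lib.Helper61.normalizer_inf_le_normalizer_commutator D D)
    · exact (le_inf hRD hRD).trans
        (Cfsg.Agent.Lib.Helper61.normalizer_inf_le_normalizer_commutator D D)
    · intro h
      exact hD1 (Cfsg.Agent.Lib.Helper61.eq_bot_of_commutator_eq_of_isPGroup p D D hDp hDp
        Subgroup.le_normalizer h)
  -- `D = [D, Q]`
  have hDQ : ⁅D, Q⁆ = D := by
    by_contra hne
    have h1 : Q ≤ Subgroup.centralizer ((⁅D, Q⁆ : Subgroup G) : Set G) := by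
      apply hmin
      · exact Cfsg.Agent.Lib.Helper1.commutator_le_of_le_normalizer hQD
      · exact (le_inf hQD Subgroup.le_normalizer).trans
          (Cfsg.Agent.Lib.Helper61.normalizer_inf_le_normalizer_commutator D Q)
      · exact (le_inf hRD hRQ).trans
          (Cfsg.Agent.Lib.Helper61.normalizer_inf_le_normalizer_commutator D Q)
      · exact hne
    exact hQnD (Cfsg.Agent.Lib.Helper61.le_centralizer_of_le_centralizer_commutator p Q D hQp hDp
      hQD h1)
  -- `C` is central in `D`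
  have hCcen : ⁅D, C⁆ = ⊥ := by
    have h1 : ⁅⁅Q, C⁆, D⁆ = ⊥ := by
      have h0 : ⁅Q, C⁆ = ⊥ :=
        Subgroup.commutator_eq_bot_iff_le_centralizer.mpr (Subgroup.le_centralizer_iff.mp hCQ)
      rw [h0]
      exact Subgroup.commutator_bot_left D
    have h2 : ⁅⁅C, D⁆, Q⁆ = ⊥ := by
      rw [Subgroup.commutator_eq_bot_iff_le_centralizer]
      exact ((Subgroup.commutator_mono hCD le_rfl).trans hD'C).trans hCQ
    have h3 := Subgroup.commutator_commutator_eq_bot_of_rotate h1 h2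
    rwa [hDQ] at h3
  have hcen : ∀ c ∈ C, ∀ d ∈ D, c * d = d * c := by
    intro c hc d hd
    have h1 : D ≤ Subgroup.centralizer (C : Set G) :=
      Subgroup.commutator_eq_bot_iff_le_centralizer.mp hCcen
    exact Subgroup.mem_centralizer_iff.mp (h1 hd) c hc
  -- a generator `u` of `C_D(R)`; it is not centralized by `Q`
  obtain ⟨u₀, hu₀, hu₀Q⟩ := frob_F0 D Q R hDp hQD hRD hQp hR hr hrp hRQ hCQR hQnD
  have hleDR : D ⊓ Subgroup.centralizer (R : Set G) ≤ T ⊓ Subgroup.centralizer (R : Set G) :=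
    inf_le_inf hDT le_rfl
  have hcycD : IsCyclic ↥(D ⊓ Subgroup.centralizer (R : Set G)) :=
    isCyclic_of_injective (Subgroup.inclusion hleDR) (Subgroup.inclusion_injective hleDR)
  obtain ⟨⟨u, hu⟩, hgen⟩ := hcycD.exists_generator
  have hugen : ∀ y ∈ D ⊓ Subgroup.centralizer (R : Set G), y ∈ Subgroup.zpowers u := by
    intro y hy
    obtain ⟨k, hk⟩ := Subgroup.mem_zpowers_iff.mp (hgen ⟨y, hy⟩)
    refine Subgroup.mem_zpowers_iff.mpr ⟨k, ?_⟩
    have h1 := congrArg Subtype.val hk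
    rwa [Subgroup.coe_zpow] at h1
  have huD : u ∈ D := hu.1
  have huR : u ∈ Subgroup.centralizer (R : Set G) := hu.2
  have huC : u ∉ C := by
    intro h
    apply hu₀Q
    intro q hq
    have h1 : u₀ ∈ C := (Subgroup.zpowers_le.mpr h) (hugen u₀ hu₀)
    exact Subgroup.mem_centralizer_iff.mp (hCQ h1) q hq
  have hu1 : u ≠ 1 := fun h => huC (h ▸ C.one_mem)
  -- the subgroup `N = [C, R]`
  obtain ⟨N, hNdef⟩ : ∃ N : Subgroup G, N = ⁅C, R⁆ := ⟨_, rfl⟩
  have hNC : N ≤ C := hNdef ▸ Cfsg.Agent.Lib.Helper1.commutator_le_of_le_normalizer hRC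
  have hNcen : ∀ n ∈ N, ∀ d ∈ D, n * d = d * n := fun n hn d hd => hcen n (hNC hn) d hd
  have hRN : R ≤ Subgroup.normalizer (N : Set G) := by
    rw [hNdef]
    exact (le_inf hRC Subgroup.le_normalizer).trans
      (Cfsg.Agent.Lib.Helper61.normalizer_inf_le_normalizer_commutator C R)
  have hDN : D ≤ Subgroup.normalizer (N : Set G) := by
    apply Cfsg.Agent.Lib.Helper23.le_normalizer_of_conj_mem'
    intro d hd n hn
    rw [← hNcen n hn d hd, mul_inv_cancel_right]
    exact hn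
  have hQN : Q ≤ Subgroup.normalizer (N : Set G) := by
    apply Cfsg.Agent.Lib.Helper23.le_normalizer_of_conj_mem'
    intro q hq n hn
    have h1 := Subgroup.mem_centralizer_iff.mp (hCQ (hNC hn)) q hq
    rw [h1, mul_inv_cancel_right]
    exact hn
  -- commutators in `D` are central, so commutation is bimultiplicative
  have hcomm_mem : ∀ a ∈ D, ∀ b ∈ D, ⁅a, b⁆ ∈ C :=
    fun a ha b hb => hD'C (Subgroup.commutator_mem_commutator ha hb)
  have hmul : ∀ a ∈ D, ∀ y₁ ∈ D, ∀ y₂ ∈ D, ⁅a, y₁ * y₂⁆ = ⁅a, y₁⁆ * ⁅a, y₂⁆ := by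
    intro a ha y₁ hy₁ y₂ hy₂
    have h1 : ⁅a, y₁ * y₂⁆ = ⁅a, y₁⁆ * (y₁ * ⁅a, y₂⁆ * y₁⁻¹) := by
      simp only [commutatorElement_def]
      group
    rw [h1, ← hcen _ (hcomm_mem a ha y₂ hy₂) y₁ hy₁, mul_inv_cancel_right]
  have hinv : ∀ a ∈ D, ∀ y ∈ D, ⁅a, y⁻¹⁆ = ⁅a, y⁆⁻¹ := by
    intro a ha y hy
    have h1 := hmul a ha y hy y⁻¹ (D.inv_mem hy)
    rw [mul_inv_cancel, commutatorElement_one_right] at h1
    exact eq_inv_of_mul_eq_one_right h1.symm
  -- `[u, D] ≤ N`
  have huN : ∀ y ∈ D, ⁅u, y⁆ ∈ N := by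
    let Z₁ : Subgroup G :=
      { carrier := {y | y ∈ D ∧ ⁅u, y⁆ ∈ N}
        mul_mem' := by
          rintro a b ⟨ha, ha'⟩ ⟨hb, hb'⟩
          exact ⟨D.mul_mem ha hb, by rw [hmul u huD a ha b hb]; exact N.mul_mem ha' hb'⟩
        one_mem' := ⟨D.one_mem, by rw [commutatorElement_one_right]; exact N.one_mem⟩
        inv_mem' := by
          rintro a ⟨ha, ha'⟩
          exact ⟨D.inv_mem ha, by rw [hinv u huD a ha]; exact N.inv_mem ha'⟩ }
    have h1 : ⁅D, R⁆ ≤ Z₁ := by
      rw [Subgroup.commutator_le]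
      intro d hd x hx
      have hxd : x * d * x⁻¹ ∈ D := (Subgroup.mem_normalizer_iff.mp (hRD hx) d).mp hd
      have hdx : ⁅d, x⁆ = d * (x * d * x⁻¹)⁻¹ := by
        rw [commutatorElement_def]
        group
      refine ⟨?_, ?_⟩
      · rw [hdx]
        exact D.mul_mem hd (D.inv_mem hxd)
      · rw [hdx, hmul u huD d hd _ (D.inv_mem hxd), hinv u huD _ hxd]
        have hux : x * u * x⁻¹ = u := by
          have h2 := Subgroup.mem_centralizer_iff.mp huR x hx
          rw [h2, mul_inv_cancel_right]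
        have h2 : ∀ a : G, ⁅x * a * x⁻¹, x * d * x⁻¹⁆ = x * ⁅a, d⁆ * x⁻¹ := by
          intro a
          simp only [commutatorElement_def]
          group
        have h3 := h2 u
        rw [hux] at h3
        rw [h3]
        have h4 : ∀ c : G, c * (x * c * x⁻¹)⁻¹ = ⁅c, x⁆ := by
          intro c
          rw [commutatorElement_def]
          group
        rw [h4, hNdef]
        exact Subgroup.commutator_mem_commutator (hcomm_mem u huD d hd) hx
    have h2 : D ⊓ Subgroup.centralizer (R : Set G) ≤ Z₁ := by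
      intro y hy
      refine ⟨hy.1, ?_⟩
      obtain ⟨k, rfl⟩ := Subgroup.mem_zpowers_iff.mp (hugen y hy)
      have h3 : ⁅u, u ^ k⁆ = 1 := by
        rw [commutatorElement_eq_one_iff_commute]
        exact (Commute.refl u).zpow_right k
      rw [h3]
      exact N.one_mem
    have h3 := Cfsg.Agent.Lib.Helper1.coprime_commutator_sup_centralizer R D hRD hcopR
      (Or.inr hsolvD)
    intro y hy
    have h4 : y ∈ ⁅D, R⁆ ⊔ (D ⊓ Subgroup.centralizer (R : Set G)) := by
      rw [h3]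
      exact hy
    exact ((sup_le h1 h2) h4).2
  -- `D' ≤ N`
  have hD'N : ⁅D, D⁆ ≤ N := by
    let Z₂ : Subgroup G :=
      { carrier := {y | y ∈ D ∧ ∀ d ∈ D, ⁅d, y⁆ ∈ N}
        mul_mem' := by
          rintro a b ⟨ha, ha'⟩ ⟨hb, hb'⟩
          exact ⟨D.mul_mem ha hb, fun d hd => by
            rw [hmul d hd a ha b hb]; exact N.mul_mem (ha' d hd) (hb' d hd)⟩
        one_mem' := ⟨D.one_mem, fun d _ => by
          rw [commutatorElement_one_right]; exact N.one_mem⟩
        inv_mem' := by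
          rintro a ⟨ha, ha'⟩
          exact ⟨D.inv_mem ha, fun d hd => by
            rw [hinv d hd a ha]; exact N.inv_mem (ha' d hd)⟩ }
    have hZ₂D : Z₂ ≤ D := fun y hy => hy.1
    have huZ₂ : u ∈ Z₂ :=
      ⟨huD, fun d hd => by rw [← commutatorElement_inv]; exact N.inv_mem (huN d hd)⟩
    have hZ₂inv : ∀ S : Subgroup G, S ≤ Subgroup.normalizer (D : Set G) →
        S ≤ Subgroup.normalizer (N : Set G) → S ≤ Subgroup.normalizer (Z₂ : Set G) := by
      intro S hSD hSN
      apply Cfsg.Agent.Lib.Helper23.le_normalizer_of_conj_mem'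
      intro g hg y hy
      obtain ⟨hyD, hy'⟩ := hy
      have hgD := hSD hg
      have hgN := hSN hg
      refine ⟨(Subgroup.mem_normalizer_iff.mp hgD y).mp hyD, ?_⟩
      intro d hd
      have hd' : g⁻¹ * d * g ∈ D := by
        have h1 := (Subgroup.mem_normalizer_iff.mp (Subgroup.inv_mem _ hgD) d).mp hd
        rwa [inv_inv] at h1
      have h1 : ⁅d, g * y * g⁻¹⁆ = g * ⁅g⁻¹ * d * g, y⁆ * g⁻¹ := by
        simp only [commutatorElement_def]
        group
      rw [h1]
      exact (Subgroup.mem_normalizer_iff.mp hgN _).mp (hy' _ hd')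
    have hZ₂eq : Z₂ = D := by
      by_contra hne
      exact huC (hleC Z₂ hZ₂D (hZ₂inv Q hQD hQN) (hZ₂inv R hRD hRN) hne huZ₂)
    rw [Subgroup.commutator_le]
    intro a ha b hb
    have hb' : b ∈ Z₂ := by
      rw [hZ₂eq]
      exact hb
    exact hb'.2 a ha
  -- hence `C ≤ N`
  have hCN : C ≤ N := by
    rw [hCdef]
    exact inf_centralizer_le_of_commutator_eq D Q N hQD hQN hDN hD'N hcopQ hDQ
  -- a nontrivial element of `C_C(R)`
  obtain ⟨⟨w, hw⟩, hw1'⟩ := (Subgroup.ne_bot_iff_exists_ne_one).mp hfix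
  have hw1 : w ≠ 1 := fun h => hw1' (Subtype.ext h)
  have hwTR : w ∈ T ⊓ Subgroup.centralizer (R : Set G) := ⟨hw.1.1, hw.2⟩
  have huTR : u ∈ T ⊓ Subgroup.centralizer (R : Set G) := ⟨hDT huD, huR⟩
  have hKp : IsPGroup p ↥(T ⊓ Subgroup.centralizer (R : Set G)) := hT.to_le inf_le_left
  obtain ⟨z, hz1, hzw, hzu⟩ := exists_common_zpowers hKp
    (w := ⟨w, hwTR⟩) (u := ⟨u, huTR⟩) (fun h => hw1 (congrArg Subtype.val h))
    (fun h => hu1 (congrArg Subtype.val h))
  have hzw' : (z : G) ∈ Subgroup.zpowers w := by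
    obtain ⟨k, hk⟩ := Subgroup.mem_zpowers_iff.mp hzw
    refine Subgroup.mem_zpowers_iff.mpr ⟨k, ?_⟩
    have h1 := congrArg Subtype.val hk
    rwa [Subgroup.coe_zpow] at h1
  have hzu' : (z : G) ∈ Subgroup.zpowers u := by
    obtain ⟨k, hk⟩ := Subgroup.mem_zpowers_iff.mp hzu
    refine Subgroup.mem_zpowers_iff.mpr ⟨k, ?_⟩
    have h1 := congrArg Subtype.val hk
    rwa [Subgroup.coe_zpow] at h1
  have hz1' : (z : G) ≠ 1 := fun h => hz1 (Subtype.ext h)
  have hzD : (z : G) ∈ D := (Subgroup.zpowers_le.mpr huD) hzu'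
  have hzQ : (z : G) ∈ Subgroup.centralizer (Q : Set G) := (Subgroup.zpowers_le.mpr hw.1.2) hzw'
  have hzR : (z : G) ∈ Subgroup.centralizer (R : Set G) := z.2.2
  have hzC : (z : G) ∈ C := by
    rw [hCdef]
    exact ⟨hzD, hzQ⟩
  have hCab : IsMulCommutative ↥C := ⟨⟨fun a b => Subtype.ext (hcen a a.2 b (hCD b.2))⟩⟩
  have hcopRC : (Nat.card R).Coprime (Nat.card C) :=
    Nat.Coprime.coprime_dvd_right (Subgroup.card_dvd_of_le hCD) hcopR
  have h0 := Cfsg.Agent.Lib.Helper1.abelian_centralizer_inf_commutator R C hRC hcopRC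
  have hzbot : (z : G) ∈ (C ⊓ Subgroup.centralizer (R : Set G)) ⊓ ⁅C, R⁆ :=
    ⟨⟨hzC, hzR⟩, hNdef ▸ hCN hzC⟩
  rw [h0] at hzbot
  exact hz1' (Subgroup.mem_bot.mp hzbot)

end

end Cfsg.Agent.Lib.Helper68.BG
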