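import Mathlib
import Cfsg.Agent.Lib.Helper68.BG.FrobAct
import Cfsg.Agent.Lib.Helper95.BG.S1428Defs

/-!
# S1428 project (BG 13.4), package F: the Frobenius action lemmas in package form
-/

set_option autoImplicit false

namespace Cfsg.Agent.Lib.Helper68.BG

open Cfsg.Agent.Lib.Helper95.BG28

universe u

theorem lemF0 : LemF0.{u} := by
  intro G _ _ p r hp hr hrp T Q R hT hQT hRT hRQ hR hCQR hQp hTQ
  have : Fact p.Prime := ⟨hp⟩
  obtain ⟨u, hu, huQ⟩ := frob_F0 T Q R hT hQT hRT hQp hR hr hrp hRQ hCQR hTQ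
  refine ⟨u, hu.1, hu.2, ?_⟩
  intro h
  exact huQ (fun q hq => Subgroup.mem_centralizer_iff.mp h q hq)

theorem lemF : LemF.{u} := by
  intro G _ _ p r hp hr hrp T Q R hT hQT hRT hRQ hR hCQR hQp hcyc hfix
  have : Fact p.Prime := ⟨hp⟩
  exact frob_F T Q R hT hQT hRT hQp hR hr hrp hRQ hCQR hcyc hfix

end Cfsg.Agent.Lib.Helper68.BG
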