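import Mathlib
import Cfsg.Agent.Lib.Helper95.BG.S1428Defs
import Cfsg.Agent.Lib.Helper13.BG.S1428X
import Cfsg.Agent.Lib.Helper68.BG.FrobAct
import Cfsg.Agent.Lib.Helper67.BG.HallUtil
import Cfsg.Agent.Lib.Helper67.BG.Basics
import Cfsg.Agent.Lib.Helper61.BG9c
import Cfsg.Agent.Lib.Helper1.MixBase
import Cfsg.Agent.Lib.Helper73.QuatReduce
import Cfsg.Agent.Lib.Helper24.BG.S1431Util
import Cfsg.Agent.S0025

/-!
# S1428 (Bender–Glauberman 13.4), package MB (helper68)

The `H`-side of the main argument.  In a would-be counterexample `Cx M E P R p r`, with `H` a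
maximal subgroup over `N(P)` not conjugate to `M`, `p ∈ σ(H)` ideal and `r ∈ τ₁(H)`:

* (E) `R` acts coprimely and nontrivially on `C_{M_σ}(P)`, so it normalizes and does not
  centralize a Sylow `t`-subgroup `V` of it; `V` is abelian (a nonabelian `t`-group lies in a
  unique maximal subgroup, and `V ≤ M ∩ H`), and `Q = [V, R]` has `C_Q(R) = 1`.
* (F) `p ∈ α(H)`, so `P ≤ H_α`; `QR` acts coprimely on `H_α` and normalizes a Sylow
  `p`-subgroup `P₁ ≥ P` of it.  `C_{P₁}(R)` is cyclic (`S1407`), so Lemma F gives `[P₁, Q] = 1`;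
  `P₁` has rank at least `3`, hence lies in a unique maximal subgroup, namely `H`, and
  `C(Q)`, `N(Q)` lie in `H`.
-/

set_option autoImplicit false
set_option linter.style.haveILetI false

namespace Cfsg.Agent.Lib.Helper68.BG

open Cfsg Cfsg.Agent.Lib.Helper46 Cfsg.Agent.Lib.Helper35.BG Cfsg.Agent.Lib.Helper95.BG28

universe u

variable {G : Type u} [Group G]

/-- In a subgroup of `r`-rank at most one, commuting elements of order dividing `r` generate the
same cyclic subgroup. -/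
theorem mem_zpowers_of_pRankLE_one [Finite G] {r : ℕ} [Fact r.Prime] {H : Subgroup G}
    (hr : PRankLE r 1 H) {x s : G} (hx : x ∈ H) (hs : s ∈ H) (hxr : x ^ r = 1) (hsr : s ^ r = 1)
    (hcomm : x * s = s * x) (hx1 : x ≠ 1) : s ∈ Subgroup.zpowers x := by
  rw [Cfsg.Agent.Lib.Helper24.pRankLE_subgroup_iff] at hr
  have h0 : Subgroup.closure ({x, s} : Set G) ≤ Subgroup.centralizer ({x, s} : Set G) := by
    rw [Subgroup.closure_le]
    intro y hy
    rw [SetLike.mem_coe, Subgroup.mem_centralizer_iff]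
    intro z hz
    rcases hy with rfl | hy <;> rcases hz with rfl | hz
    · rfl
    · rw [Set.mem_singleton_iff] at hz; rw [hz]; exact hcomm.symm
    · rw [Set.mem_singleton_iff] at hy; rw [hy]; exact hcomm
    · rw [Set.mem_singleton_iff] at hy hz; rw [hy, hz]
  have hcl : ∀ a ∈ Subgroup.closure ({x, s} : Set G), ∀ b ∈ Subgroup.closure ({x, s} : Set G),
      a * b = b * a := by
    intro a ha b hb
    have h1 : Subgroup.closure ({x, s} : Set G) ≤
        Subgroup.centralizer ((Subgroup.closure ({x, s} : Set G) : Subgroup G) : Set G) := by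
      rw [Subgroup.closure_le]
      intro y hy
      rw [SetLike.mem_coe, Subgroup.mem_centralizer_iff]
      intro z hz
      exact ((Subgroup.mem_centralizer_iff.mp (h0 hz)) y hy).symm
    exact ((Subgroup.mem_centralizer_iff.mp (h1 hb)) a ha)
  have hexp : ∀ a ∈ Subgroup.closure ({x, s} : Set G), a ^ r = 1 := by
    intro a ha
    induction ha using Subgroup.closure_induction with
    | mem y hy =>
      rcases hy with rfl | hy
      · exact hxr
      · rw [Set.mem_singleton_iff] at hy; rw [hy]; exact hsr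
    | one => exact one_pow _
    | mul a b ha hb iha ihb =>
      have hc : Commute a b := hcl a ha b hb
      rw [hc.mul_pow, iha, ihb, one_mul]
    | inv a ha iha => rw [inv_pow, iha, inv_one]
  have hle : Subgroup.closure ({x, s} : Set G) ≤ H := by
    rw [Subgroup.closure_le]
    intro y hy
    rcases hy with rfl | hy
    · exact hx
    · rw [Set.mem_singleton_iff] at hy; rw [hy]; exact hs
  have hcard := hr _ hle hcl hexp
  rw [pow_one] at hcard
  have hzle : Subgroup.zpowers x ≤ Subgroup.closure ({x, s} : Set G) :=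
    Subgroup.zpowers_le.mpr (Subgroup.subset_closure (Set.mem_insert _ _))
  have hzc : Nat.card (Subgroup.zpowers x) = r := by
    rw [Nat.card_zpowers]; exact orderOf_eq_prime hxr hx1
  have heq : Subgroup.zpowers x = Subgroup.closure ({x, s} : Set G) :=
    Subgroup.eq_of_le_of_card_ge hzle (by rw [hzc]; exact hcard)
  rw [heq]
  exact Subgroup.subset_closure (Set.mem_insert_of_mem _ rfl)

/-- A subgroup of prime order has a nontrivial element. -/
theorem exists_ne_one_of_card_prime [Finite G] {r : ℕ} (hr : r.Prime) {R : Subgroup G}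
    (hR : Nat.card R = r) : ∃ s ∈ R, s ≠ 1 := by
  by_contra hcon
  push Not at hcon
  have : R = ⊥ := (Subgroup.eq_bot_iff_forall R).mpr hcon
  rw [this, Subgroup.card_bot] at hR
  exact hr.one_lt.ne' hR.symm

/-- `r ∉ σ(M)` in a counterexample (`R` lies in the complement `E` of `M_σ`). -/
theorem mb_r_not_sigma [Finite G] (hG : IsMinSimpleOddOrder G) (hy : Hy hG)
    {M E P R : Subgroup G} {p r : ℕ} (cx : Cx M E P R p r) : r ∉ sigma M := by
  intro hrσ
  obtain ⟨⟨-, -, hidx⟩, -, -⟩ :=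
    Cfsg.Agent.Lib.Helper66.BG.s1350_core hG hy.h1404 hy.h1405 M cx.hM
  apply hidx r cx.hr hrσ
  rw [relIndex_right_of_isComplIn cx.hE, ← cx.hR]
  exact Subgroup.card_dvd_of_le cx.hRE

/-- (E), first half: a Sylow `t`-subgroup `V` of `C_{M_σ}(P)`, abelian, normalized but not
centralized by `R`. -/
theorem mb_exists_V [Finite G] (hG : IsMinSimpleOddOrder G) (hy : Hy hG)
    {M E P R : Subgroup G} {p r : ℕ} (cx : Cx M E P R p r) {H : Subgroup G} (hH : IsCoatom H)
    (hNP : Subgroup.normalizer (P : Set G) ≤ H) (hMH : M ≠ H) :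
    ∃ (t : ℕ) (V : Subgroup G), t.Prime ∧ t ∈ sigma M ∧ IsPGroup t V ∧ V ≤ sigmaCore M ∧
      V ≤ Subgroup.centralizer (P : Set G) ∧ R ≤ Subgroup.normalizer (V : Set G) ∧
      ¬ V ≤ Subgroup.centralizer (R : Set G) ∧ IsMulCommutative V := by
  have hr := cx.hr
  haveI : Fact r.Prime := ⟨hr⟩
  have hrσ := mb_r_not_sigma hG hy cx
  obtain ⟨s, hsR, hs1⟩ := exists_ne_one_of_card_prime hr cx.hR
  have hRz : R = Subgroup.zpowers s :=
    Cfsg.Agent.Lib.Helper61.eq_zpowers_of_prime_card hr R cx.hR hsR hs1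
  have hsr : s ^ r ^ 1 = 1 := by
    rw [pow_one]
    have h1 : (⟨s, hsR⟩ : R) ^ Nat.card R = 1 := pow_card_eq_one'
    rw [cx.hR] at h1
    exact congrArg Subtype.val h1
  obtain ⟨K, hKdef⟩ : ∃ K : Subgroup G, K = sigmaCore M ⊓ Subgroup.centralizer (P : Set G) :=
    ⟨_, rfl⟩
  have hKσ : K ≤ sigmaCore M := by rw [hKdef]; exact inf_le_left
  have hKP : K ≤ Subgroup.centralizer (P : Set G) := by rw [hKdef]; exact inf_le_right
  have hsM : s ∈ M := cx.hE.1 (cx.hRE hsR)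
  have hsNσ : s ∈ Subgroup.normalizer ((sigmaCore M : Subgroup G) : Set G) :=
    Cfsg.Agent.Lib.Helper67.BG.sigmaCore_normalizer M hsM
  have hsNC : s ∈ Subgroup.normalizer ((Subgroup.centralizer (P : Set G) : Subgroup G) : Set G) :=
    normalizer_le_normalizer_centralizer P (centralizer_le_normalizer' P (cx.hRP hsR))
  have hsNK : s ∈ Subgroup.normalizer (K : Set G) := by
    rw [hKdef]; exact Cfsg.Agent.Lib.Helper13.BG.mem_normalizer_inf13 hsNσ hsNC
  have hcopK : ¬ r ∣ Nat.card K := fun h =>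
    hrσ (Cfsg.Agent.Lib.Helper67.BG.sigmaCore_isPi M r hr (h.trans (Subgroup.card_dvd_of_le hKσ)))
  have hncK : ¬ ∀ c ∈ K, c * s = s * c := by
    intro hall
    apply cx.hne
    rw [← hKdef]
    intro c hc
    rw [hRz, Subgroup.mem_centralizer_iff]
    intro h hh
    obtain ⟨k, rfl⟩ := Subgroup.mem_zpowers_iff.mp hh
    exact (Commute.zpow_left (show Commute s c from (hall c hc).symm) k).eq
  obtain ⟨t, ht, V, hVsyl, hsV, hVnc⟩ :=
    Cfsg.Agent.Lib.Helper13.BG.exists_sylow_not_centralized hsr hsNK hcopK hncK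
  haveI : Fact t.Prime := ⟨ht⟩
  have hVt : IsPGroup t V := sylIn_isPGroup hVsyl
  have hVK : V ≤ K := hVsyl.1
  have hV1 : V ≠ ⊥ := by
    rintro rfl
    apply hVnc
    intro v hv
    rw [Subgroup.mem_bot.mp hv, one_mul, mul_one]
  have htσ : t ∈ sigma M :=
    Cfsg.Agent.Lib.Helper67.BG.sigmaCore_isPi M t ht
      ((Cfsg.Agent.Lib.Helper67.BG.dvd_card_of_isPGroup_ne_bot hVt hV1).trans
        (Subgroup.card_dvd_of_le (hVK.trans hKσ)))
  have hRV : R ≤ Subgroup.normalizer (V : Set G) := by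
    rw [hRz]; exact Subgroup.zpowers_le.mpr hsV
  have hVR : ¬ V ≤ Subgroup.centralizer (R : Set G) := by
    intro h
    apply hVnc
    intro v hv
    exact ((Subgroup.mem_centralizer_iff.mp (h hv)) s hsR).symm
  refine ⟨t, V, ht, htσ, hVt, hVK.trans hKσ, hVK.trans hKP, hRV, hVR, ?_⟩
  by_contra hna
  have hU := hy.h1422 t V hVt hna
  have hVM : V ≤ M := (hVK.trans hKσ).trans (Cfsg.Agent.Lib.Helper67.BG.sigmaCore_le M)
  have hVH : V ≤ H := ((hVK.trans hKP).trans (centralizer_le_normalizer' P)).trans hNP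
  exact hMH (Cfsg.Agent.Lib.Helper61.bg_unique_eq hU cx.hM hVM hH hVH)

/-- (E): the subgroup `Q = [V, R]`. -/
theorem mb_exists_Q [Finite G] (hG : IsMinSimpleOddOrder G) (hy : Hy hG)
    {M E P R : Subgroup G} {p r : ℕ} (cx : Cx M E P R p r) {H : Subgroup G} (hH : IsCoatom H)
    (hNP : Subgroup.normalizer (P : Set G) ≤ H) (hMH : M ≠ H) :
    ∃ (t : ℕ) (Q : Subgroup G), t.Prime ∧ t ∈ sigma M ∧ IsPGroup t Q ∧ Q ≠ ⊥ ∧
      Q ≤ sigmaCore M ∧ Q ≤ Subgroup.centralizer (P : Set G) ∧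
      R ≤ Subgroup.normalizer (Q : Set G) ∧ Q ⊓ Subgroup.centralizer (R : Set G) = ⊥ ∧
      Q ≤ ⁅sigmaCore M, R⁆ := by
  obtain ⟨t, V, ht, htσ, hVt, hVσ, hVP, hRV, hVR, hVab⟩ := mb_exists_V hG hy cx hH hNP hMH
  haveI := hVab
  haveI : Fact t.Prime := ⟨ht⟩
  have hrσ := mb_r_not_sigma hG hy cx
  have hQV : ⁅V, R⁆ ≤ V := Cfsg.Agent.Lib.Helper1.commutator_le_of_le_normalizer hRV
  have hcop : (Nat.card R).Coprime (Nat.card V) := by
    rw [cx.hR]
    obtain ⟨k, hk⟩ := IsPGroup.iff_card.mp hVt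
    rw [hk]
    apply Nat.Coprime.pow_right
    rw [Nat.coprime_primes cx.hr ht]
    rintro rfl
    exact hrσ htσ
  have h0 := Cfsg.Agent.Lib.Helper1.abelian_centralizer_inf_commutator R V hRV hcop
  refine ⟨t, ⁅V, R⁆, ht, htσ, hVt.to_le hQV, ?_, hQV.trans hVσ, hQV.trans hVP, ?_, ?_,
    Subgroup.commutator_mono hVσ le_rfl⟩
  · intro h
    exact hVR (Subgroup.commutator_eq_bot_iff_le_centralizer.mp h)
  · exact (le_inf hRV Subgroup.le_normalizer).trans
      (Cfsg.Agent.Lib.Helper61.normalizer_inf_le_normalizer_commutator V R)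
  · rw [eq_bot_iff, ← h0]
    exact le_inf (le_inf (inf_le_left.trans hQV) inf_le_right) inf_le_left

/-- An ideal prime in `σ(H)` lies in `α(H)`. -/
theorem mb_mem_alpha [Finite G] {H : Subgroup G} {p : ℕ} (hpH : p ∈ sigma H)
    (hid : IsIdealPrime p G) : p ∈ alpha H := by
  have hp := hid.1
  haveI : Fact p.Prime := ⟨hp⟩
  refine ⟨hp, fun h2 => hid.2.1 ?_⟩
  obtain ⟨S, hS⟩ := Cfsg.Agent.Lib.Helper13.BG.exists_sylIn p H
  have hStop := isSylowIn_top_of_sigma hpH hS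
  have h3 : PRankLE p 2 S := by
    rw [Cfsg.Agent.Lib.Helper24.pRankLE_subgroup_iff] at h2 ⊢
    intro A hAS hc he
    exact h2 A (hAS.trans hS.1) hc he
  have h4 : PRankLE p 2 (⊤ : Subgroup G) := pRankLE_of_isSylowIn hStop h3
  exact Cfsg.Agent.Lib.Helper73.pRankLE_of_injective
    (Subgroup.topEquiv (G := G)).symm.toMonoidHom (Subgroup.topEquiv (G := G)).symm.injective
    p 2 h4

/-- For `p ∈ α(H)`, every `p`-subgroup of `H` lies in `H_α`. -/
theorem mb_le_alphaCore [Finite G] (hG : IsMinSimpleOddOrder G) (hy : Hy hG) {H : Subgroup G}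
    (hH : IsCoatom H) {p : ℕ} (hpα : p ∈ alpha H) {X : Subgroup G} (hX : IsPGroup p X)
    (hXH : X ≤ H) : X ≤ alphaCore H := by
  haveI : Fact p.Prime := ⟨hpα.1⟩
  obtain ⟨⟨hαH, -, hidx⟩, -, -⟩ := hy.h1405 H hH
  obtain ⟨l, hl, hle⟩ := Cfsg.Agent.Lib.Helper13.BG.exists_conj_le_of_not_dvd_relIndex hX hXH hαH
    (hidx p hpα.1 hpα)
  intro x hx
  have h1 : l * x * l⁻¹ ∈ alphaCore H := hle (conj_mem_map_conj l hx)
  have hn : l ∈ Subgroup.normalizer ((alphaCore H : Subgroup G) : Set G) :=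
    Cfsg.Agent.Lib.Helper13.BG.le_normalizer_map_subtype (piCore (alpha H) ↥H) hl
  exact (Subgroup.mem_normalizer_iff.mp hn x).mpr h1

/-- (F): an `A`-invariant Sylow `p`-subgroup `P₁ ≥ P` of `H_α` (it is a Sylow `p`-subgroup of
`H`), for `A ≤ N_H(P)` of order prime to `|H_α|`. -/
theorem mb_exists_P1 [Finite G] (hG : IsMinSimpleOddOrder G) (hy : Hy hG) {H : Subgroup G}
    (hH : IsCoatom H) {p : ℕ} (hpα : p ∈ alpha H) {P A : Subgroup G} (hPp : IsPGroup p P)
    (hPH : P ≤ H) (hAH : A ≤ H) (hAP : A ≤ Subgroup.normalizer (P : Set G))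
    (hcop : (Nat.card A).Coprime (Nat.card (alphaCore H))) :
    ∃ P1 : Subgroup G, P ≤ P1 ∧ IsSylowIn p P1 H ∧ P1 ≤ alphaCore H ∧
      A ≤ Subgroup.normalizer (P1 : Set G) := by
  haveI : Fact p.Prime := ⟨hpα.1⟩
  have hPα := mb_le_alphaCore hG hy hH hpα hPp hPH
  have hαH : alphaCore H ≤ H := Subgroup.map_subtype_le _
  have hne : alphaCore H ≠ ⊤ := fun h => hH.1 (top_le_iff.mp (h ▸ hαH))
  have hsolv : Group.IsSolvable (alphaCore H) := isSolvable_of_ne_top hG hne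
  have hAN : A ≤ Subgroup.normalizer ((alphaCore H : Subgroup G) : Set G) :=
    hAH.trans (Cfsg.Agent.Lib.Helper13.BG.le_normalizer_map_subtype (piCore (alpha H) ↥H))
  obtain ⟨S, hPS, hAS⟩ :=
    Cfsg.Agent.S0025.result A (alphaCore H) hAN hcop (Or.inr hsolv) p P hPα hPp hAP
  have h1 : IsSylowIn p ((S : Subgroup (alphaCore H)).map (alphaCore H).subtype) (alphaCore H) :=
    isSylowIn_of_sylow S
  refine ⟨(S : Subgroup (alphaCore H)).map (alphaCore H).subtype, hPS, ?_, h1.1, hAS⟩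
  obtain ⟨⟨-, -, hidx⟩, -, -⟩ := hy.h1405 H hH
  apply Cfsg.Agent.Lib.Helper13.BG.isSylowIn_of_not_dvd_relIndex (sylIn_isPGroup h1)
    (h1.1.trans hαH)
  rw [← Subgroup.relIndex_mul_relIndex _ _ _ h1.1 hαH]
  intro hdvd
  rcases (Nat.Prime.dvd_mul hpα.1).mp hdvd with h | h
  · exact Cfsg.Agent.Lib.Helper24.BG31.sylIn_not_dvd_relIndex h1 h
  · exact hidx p hpα.1 hpα h

/-- `C_{H_α}(R)` has cyclic Sylow subgroups: a `p`-subgroup of `H_α` centralized by `R`
(of prime order `r ∈ τ₁(H)`) is cyclic. -/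
theorem mb_cyclic [Finite G] (hG : IsMinSimpleOddOrder G) (hy : Hy hG) {H : Subgroup G}
    (hH : IsCoatom H) {r : ℕ} (hrH : r ∈ tau1 H) {R : Subgroup G} (hRH : R ≤ H)
    (hR : Nat.card R = r) (hα : alphaCore H ≠ ⊥) {p : ℕ} [Fact p.Prime] {W : Subgroup G}
    (hW : IsPGroup p W) (hWα : W ≤ alphaCore H) (hWR : W ≤ Subgroup.centralizer (R : Set G)) :
    IsCyclic W := by
  obtain ⟨hr, hrσ, hrdvd, -, hrk⟩ := hrH
  haveI : Fact r.Prime := ⟨hr⟩
  have hRp : IsPGroup r (R.subgroupOf H) := by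
    have h1 : IsPGroup r R := IsPGroup.of_card (n := 1) (by rw [hR, pow_one])
    exact h1.comap_subtype
  obtain ⟨Pr, hPr⟩ := hRp.exists_le_sylow
  obtain ⟨x, hx, hxo, hZ, -⟩ := hy.h1407 H hH hα r hrdvd hrσ Pr
  obtain ⟨s, hsR, hs1⟩ := exists_ne_one_of_card_prime hr hR
  have hRz : R = Subgroup.zpowers s :=
    Cfsg.Agent.Lib.Helper61.eq_zpowers_of_prime_card hr R hR hsR hs1
  have hsr : s ^ r = 1 := by
    have h1 : (⟨s, hsR⟩ : R) ^ Nat.card R = 1 := pow_card_eq_one'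
    rw [hR] at h1
    exact congrArg Subtype.val h1
  have hxR : x ∈ R := by
    rw [hRz]
    obtain ⟨y, ⟨z, hz, rfl⟩, rfl⟩ := hx
    have hsPr : (⟨s, hRH hsR⟩ : H) ∈ (Pr : Subgroup H) :=
      hPr (Subgroup.mem_subgroupOf.mpr hsR)
    have hc : z * ⟨⟨s, hRH hsR⟩, hsPr⟩ = ⟨⟨s, hRH hsR⟩, hsPr⟩ * z :=
      (Subgroup.mem_center_iff.mp hz ⟨⟨s, hRH hsR⟩, hsPr⟩).symm
    have hc' : ((z : H) : G) * s = s * ((z : H) : G) := by
      have := congrArg (fun w : (Pr : Subgroup H) => ((w : H) : G)) hc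
      simpa using this
    have hxr := pow_orderOf_eq_one (H.subtype ((Pr : Subgroup H).subtype z))
    rw [hxo] at hxr
    exact mem_zpowers_of_pRankLE_one hrk (hRH hsR) (z : H).2 hsr hxr hc'.symm hs1
  have hle : W ≤ alphaCore H ⊓ Subgroup.centralizer ({x} : Set G) :=
    le_inf hWα (hWR.trans (Subgroup.centralizer_le (by simpa using hxR)))
  haveI := hZ
  have hcyc : IsCyclic (W.subgroupOf (alphaCore H ⊓ Subgroup.centralizer ({x} : Set G))) :=
    IsPGroup.isCyclic_of_isZGroup hW.comap_subtype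
  exact isCyclic_of_surjective (Subgroup.subgroupOfEquivOfLe hle)
    (Subgroup.subgroupOfEquivOfLe hle).surjective

/-- **Package MB** of the S1428 project (the `H`-side). -/
theorem lemMB : Cfsg.Agent.Lib.Helper95.BG28.LemMB.{u} := by
  intro _hF G _ _ hG hy M E P R p r cx H hH hNP hnc hpH hid hrH
  have hM := cx.hM
  have hMH : M ≠ H := by
    intro h
    apply hnc 1
    rw [Cfsg.Agent.Lib.Helper35.BG.map_conj_one, h]
  obtain ⟨t, Q, ht, htσ, hQt, hQ1, hQσ, hQP, hRQ, hfpf, hQc⟩ :=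
    mb_exists_Q hG hy cx hH hNP hMH
  haveI : Fact t.Prime := ⟨ht⟩
  have hp : p.Prime := hid.1
  haveI : Fact p.Prime := ⟨hp⟩
  have hr := cx.hr
  have hpα := mb_mem_alpha hpH hid
  have hrσM := mb_r_not_sigma hG hy cx
  have hpσM : p ∉ sigma M := cx.hp.2.1
  have hrp : r ≠ p := by rintro rfl; exact hrH.2.1 hpH
  have htp : t ≠ p := by rintro rfl; exact hpσM htσ
  have hPp : IsPGroup p P := IsPGroup.of_card (n := 1) (by rw [cx.hP, pow_one])
  have hP1 : P ≠ ⊥ := by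
    intro h
    have h1 := cx.hP
    rw [h, Subgroup.card_bot] at h1
    exact hp.one_lt.ne' h1.symm
  have hPH : P ≤ H := Subgroup.le_normalizer.trans hNP
  have hCPH : Subgroup.centralizer (P : Set G) ≤ H := (centralizer_le_normalizer' P).trans hNP
  have hRH : R ≤ H := cx.hRP.trans hCPH
  have hQH : Q ≤ H := hQP.trans hCPH
  have hAH : Q ⊔ R ≤ H := sup_le hQH hRH
  have hAP : Q ⊔ R ≤ Subgroup.normalizer (P : Set G) :=
    sup_le (hQP.trans (centralizer_le_normalizer' P)) (cx.hRP.trans (centralizer_le_normalizer' P))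
  have hαpi := (hy.h1405 H hH).1.2.1
  have hcop : (Nat.card (Q ⊔ R : Subgroup G)).Coprime (Nat.card (alphaCore H)) := by
    have hdvd : Nat.card (Q ⊔ R : Subgroup G) ∣ Nat.card R * Nat.card Q := by
      rw [sup_comm]; exact Cfsg.Agent.Lib.Helper1.Mix.card_sup_dvd R Q hRQ
    apply Nat.Coprime.coprime_dvd_left hdvd
    apply Nat.Coprime.mul_left
    · rw [cx.hR, Nat.Prime.coprime_iff_not_dvd hr]
      intro hd
      exact (hαpi r hr hd).2 (pRankLE_mono hr.pos (by norm_num) hrH.2.2.2.2)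
    · obtain ⟨k, hk⟩ := IsPGroup.iff_card.mp hQt
      rw [hk]
      apply Nat.Coprime.pow_left
      rw [Nat.Prime.coprime_iff_not_dvd ht]
      intro hd
      exact Cfsg.Agent.Lib.Helper13.BG.alpha_sigma_disjoint hG hy.h1403 hM hH hnc
        (hαpi t ht hd) htσ
  obtain ⟨P1, hPP1, hP1syl, hP1α, hAP1⟩ := mb_exists_P1 hG hy hH hpα hPp hPH hAH hAP hcop
  have hP1p : IsPGroup p P1 := sylIn_isPGroup hP1syl
  have hQP1 : Q ≤ Subgroup.normalizer (P1 : Set G) := le_sup_left.trans hAP1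
  have hRP1 : R ≤ Subgroup.normalizer (P1 : Set G) := le_sup_right.trans hAP1
  have hα1 : alphaCore H ≠ ⊥ := fun h => hP1 (le_bot_iff.mp (h ▸ (hPP1.trans hP1α)))
  have hcyc : IsCyclic ↥(P1 ⊓ Subgroup.centralizer (R : Set G)) :=
    mb_cyclic hG hy hH hrH hRH cx.hR hα1 (hP1p.to_le inf_le_left) (inf_le_left.trans hP1α)
      inf_le_right
  have hQcop : (Nat.card Q).Coprime p := by
    obtain ⟨k, hk⟩ := IsPGroup.iff_card.mp hQt
    rw [hk]
    exact Nat.Coprime.pow_left _ ((Nat.coprime_primes ht hp).mpr htp)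
  have hfix : P1 ⊓ Subgroup.centralizer (Q : Set G) ⊓ Subgroup.centralizer (R : Set G) ≠ ⊥ := by
    intro h
    apply hP1
    rw [eq_bot_iff, ← h]
    exact le_inf (le_inf hPP1 (Subgroup.le_centralizer_iff.mp hQP))
      (Subgroup.le_centralizer_iff.mp cx.hRP)
  have hQC : Q ≤ Subgroup.centralizer (P1 : Set G) :=
    frob_F P1 Q R hP1p hQP1 hRP1 hQcop cx.hR hr hrp hRQ hfpf hcyc hfix
  have hP1CQ : P1 ≤ Subgroup.centralizer (Q : Set G) := Subgroup.le_centralizer_iff.mp hQC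
  have hP1H : P1 ≤ H := hP1syl.1
  have hP1top : P1 ≠ ⊤ := fun h => hH.1 (top_le_iff.mp (h ▸ hP1H))
  have hnr2 : ¬ PRankLE p 2 P1 := fun h => hpα.2 (pRankLE_of_isSylowIn hP1syl h)
  have hnr1 : ¬ PRankLE p 1 P1 := fun h => hnr2 (pRankLE_mono hp.pos (by norm_num) h)
  have hU : InUniqueMaximal P1 :=
    hy.h1403 P1 hP1top (not_rankLE_of_not_pRankLE hnr1) (Or.inl (not_rankLE_of_not_pRankLE hnr2))
  have hQtop : Q ≠ ⊤ := fun h => hH.1 (top_le_iff.mp (h ▸ hQH))
  have hNQ : Subgroup.normalizer (Q : Set G) ≤ H := by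
    obtain ⟨L, hL, hNL⟩ :=
      Cfsg.Agent.Lib.Helper61.bg_exists_isCoatom_ge (normalizer_ne_top hG hQ1 hQtop)
    have hP1L : P1 ≤ L := (hP1CQ.trans (centralizer_le_normalizer' Q)).trans hNL
    rw [Cfsg.Agent.Lib.Helper61.bg_unique_eq hU hH hP1H hL hP1L]
    exact hNL
  exact ⟨t, Q, htσ, hQt, hQ1, hQσ, hRQ, hfpf, hQc, (centralizer_le_normalizer' Q).trans hNQ, hNQ⟩

end Cfsg.Agent.Lib.Helper68.BG
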