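import Mathlib
import Cfsg.Agent.Lib.Helper98.BG.SigmaDefs
import Cfsg.Agent.Lib.Helper68.BG.S1428MB

/-!
# Sigma-partition project (helper98, Bender–Glauberman 13.9), package D (helper68)

`P ≤ N_G(Q)` of prime order `p ∉ σ(M)` acting fixed-point-freely on the common Sylow
`q`-subgroup `Q`.  A `QP`-invariant Sylow `r`-subgroup `R` of `M_β` (`r ∈ β(M)`) has rank at
least `3`, so `M` is the only maximal subgroup containing it; hence `Q` does not centralize `R`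
(`C(Q) ≤ H`), and Lemma F0 gives an element of `C_R(P)` not centralized by `Q`.  This yields
`X ≤ C_{M_σ}(P)` of order `r`, and shows `C_{M_σ}(P) ≰ H` (as `M_σ ∩ H ≤ C(Q)` by package B).
-/

set_option autoImplicit false
set_option linter.style.haveILetI false

namespace Cfsg.Agent.Lib.Helper68.BG

open Cfsg Cfsg.Agent.Lib.Helper46 Cfsg.Agent.Lib.Helper35.BG Cfsg.Agent.Lib.Helper98.BG13

universe u

/-- **Package D** of the sigma-partition project. -/
theorem lemD (hA : LemA.{u}) (hB : LemB.{u}) : LemD.{u} := by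
  intro G _ _ hG hy M H Q q hb p P hp hpM hP hPN hQP
  obtain ⟨-, -, hqα, -, -, -, hβ1⟩ := hA hG hy M H Q q hb
  obtain ⟨hB1, -⟩ := hB hG hy M H Q q hb
  have hM := hb.hM
  have hH := hb.hH
  have hMH : M ≠ H := by
    intro h
    apply hb.hnc 1
    rw [Cfsg.Agent.Lib.Helper35.BG.map_conj_one, h]
  haveI : Fact p.Prime := ⟨hp⟩
  have hq : q.Prime := hb.hqM.1
  haveI : Fact q.Prime := ⟨hq⟩
  obtain ⟨Mβ, hMβ⟩ : ∃ Mβ : Subgroup G, Mβ = piCoreOf (beta M) M := ⟨_, rfl⟩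
  have hβpi : ∀ t : ℕ, t.Prime → t ∣ Nat.card Mβ → t ∈ beta M := by
    rw [hMβ]; exact Cfsg.Agent.Lib.Helper23.piCoreOf_isPi (beta M) M
  have hβM : Mβ ≤ M := by rw [hMβ]; exact Cfsg.Agent.Lib.Helper23.piCoreOf_le _ M
  have hβN : M ≤ Subgroup.normalizer (Mβ : Set G) := by
    rw [hMβ]; exact Cfsg.Agent.Lib.Helper23.piCoreOf_normalizer (beta M) M
  have hασ : ∀ t : ℕ, t ∈ alpha M → t ∈ sigma M := fun t ht =>
    Cfsg.Agent.Lib.Helper46.BG.mem_sigma_of_mem_alpha hG hy.h1405 hM ht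
  have hβσ : Mβ ≤ sigmaCore M :=
    Cfsg.Agent.Lib.Helper23.le_piCoreOf_of_normal hβM hβN
      (fun t ht hd => hασ t (hβpi t ht hd).1)
  -- a prime `r ∈ β(M)` dividing `|M_β|`
  have hcard1 : Nat.card Mβ ≠ 1 := by
    intro h
    apply hβ1
    rw [← hMβ]
    exact Subgroup.card_eq_one.mp h
  obtain ⟨r, hr, hrdvd⟩ := Nat.exists_prime_and_dvd hcard1
  have hrβ : r ∈ beta M := hβpi r hr hrdvd
  haveI : Fact r.Prime := ⟨hr⟩
  have hrα : r ∈ alpha M := hrβ.1
  have hrq : r ≠ q := by rintro rfl; exact hqα hrα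
  have hrp : r ≠ p := by rintro rfl; exact hpM (hασ r hrα)
  -- `QP` acts coprimely on `M_β`
  have hAM : Q ⊔ P ≤ M := (sup_le Subgroup.le_normalizer hPN).trans hb.hNM
  have hAN : Q ⊔ P ≤ Subgroup.normalizer (Mβ : Set G) := hAM.trans hβN
  have hQq : IsPGroup q Q := sylIn_isPGroup hb.hQ
  have hcop : (Nat.card (Q ⊔ P : Subgroup G)).Coprime (Nat.card Mβ) := by
    have hdvd : Nat.card (Q ⊔ P : Subgroup G) ∣ Nat.card P * Nat.card Q := by
      rw [sup_comm]; exact Cfsg.Agent.Lib.Helper1.Mix.card_sup_dvd P Q hPN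
    apply Nat.Coprime.coprime_dvd_left hdvd
    apply Nat.Coprime.mul_left
    · rw [hP, Nat.Prime.coprime_iff_not_dvd hp]
      intro hd
      exact hpM (hασ p (hβpi p hp hd).1)
    · obtain ⟨k, hk⟩ := IsPGroup.iff_card.mp hQq
      rw [hk]
      apply Nat.Coprime.pow_left
      rw [Nat.Prime.coprime_iff_not_dvd hq]
      intro hd
      exact hqα (hβpi q hq hd).1
  have hne : Mβ ≠ ⊤ := fun h => hM.1 (top_le_iff.mp (h ▸ hβM))
  have hsolv : Group.IsSolvable Mβ := isSolvable_of_ne_top hG hne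
  obtain ⟨S, -, hAS⟩ := Cfsg.Agent.S0025.result (Q ⊔ P) Mβ hAN hcop (Or.inr hsolv) r ⊥ bot_le
    IsPGroup.of_bot (by
      intro x _
      rw [Subgroup.mem_normalizer_iff]
      intro y
      simp [Subgroup.mem_bot])
  obtain ⟨R1, hR1def⟩ : ∃ R1 : Subgroup G, R1 = (S : Subgroup Mβ).map Mβ.subtype := ⟨_, rfl⟩
  rw [← hR1def] at hAS
  have hR1syl : IsSylowIn r R1 Mβ := by rw [hR1def]; exact isSylowIn_of_sylow S
  have hR1r : IsPGroup r R1 := sylIn_isPGroup hR1syl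
  have hR1M : IsSylowIn r R1 M := by
    obtain ⟨⟨-, -, hidx⟩, -⟩ := hy.h1414 M hM
    apply Cfsg.Agent.Lib.Helper13.BG.isSylowIn_of_not_dvd_relIndex hR1r (hR1syl.1.trans hβM)
    rw [← Subgroup.relIndex_mul_relIndex _ _ _ hR1syl.1 hβM]
    intro hdvd
    rcases (Nat.Prime.dvd_mul hr).mp hdvd with h | h
    · exact Cfsg.Agent.Lib.Helper24.BG31.sylIn_not_dvd_relIndex hR1syl h
    · rw [← hMβ] at hidx
      exact hidx r hr hrβ h
  -- `R1` lies in a unique maximal subgroup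
  have hnr2 : ¬ PRankLE r 2 R1 := fun h => hrα.2 (pRankLE_of_isSylowIn hR1M h)
  have hnr1 : ¬ PRankLE r 1 R1 := fun h => hnr2 (pRankLE_mono hr.pos (by norm_num) h)
  have hR1top : R1 ≠ ⊤ := fun h => hM.1 (top_le_iff.mp (h ▸ hR1M.1))
  have hU : InUniqueMaximal R1 :=
    hy.h1403 R1 hR1top (not_rankLE_of_not_pRankLE hnr1) (Or.inl (not_rankLE_of_not_pRankLE hnr2))
  have hR1H : ¬ R1 ≤ H := fun h =>
    hMH (Cfsg.Agent.Lib.Helper61.bg_unique_eq hU hM hR1M.1 hH h)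
  have hQR1 : ¬ Q ≤ Subgroup.centralizer (R1 : Set G) := by
    intro h
    apply hR1H
    exact ((Subgroup.le_centralizer_iff.mp h).trans (centralizer_le_normalizer' Q)).trans hb.hNH
  -- Lemma F0
  have hQr : (Nat.card Q).Coprime r := by
    obtain ⟨k, hk⟩ := IsPGroup.iff_card.mp hQq
    rw [hk]
    exact Nat.Coprime.pow_left _ ((Nat.coprime_primes hq hr).mpr (Ne.symm hrq))
  obtain ⟨u, hu, hunc⟩ := frob_F0 R1 Q P hR1r (le_sup_left.trans hAS) (le_sup_right.trans hAS)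
    hQr hP hp (Ne.symm hrp) hPN hQP hQR1
  have hu1 : u ≠ 1 := by
    rintro rfl
    exact hunc (fun x _ => by rw [mul_one, one_mul])
  have huσ : u ∈ sigmaCore M := hβσ (hR1syl.1 hu.1)
  refine ⟨?_, ?_⟩
  · have hzle : Subgroup.zpowers u ≤ R1 ⊓ Subgroup.centralizer (P : Set G) :=
      Subgroup.zpowers_le.mpr hu
    have hz1 : Subgroup.zpowers u ≠ ⊥ := by
      intro h
      exact hu1 (Subgroup.zpowers_eq_bot.mp h)
    have hzr : IsPGroup r (Subgroup.zpowers u) := hR1r.to_le (hzle.trans inf_le_left)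
    have hdvd : r ∣ Nat.card (Subgroup.zpowers u) :=
      Cfsg.Agent.Lib.Helper67.BG.dvd_card_of_isPGroup_ne_bot hzr hz1
    obtain ⟨x, hx⟩ := exists_prime_orderOf_dvd_card' r hdvd
    refine ⟨r, Subgroup.zpowers (x : G), hrβ, ?_, ?_⟩
    · rw [Nat.card_zpowers, Subgroup.orderOf_coe]; exact hx
    · have hxle : Subgroup.zpowers (x : G) ≤ R1 ⊓ Subgroup.centralizer (P : Set G) :=
        (Subgroup.zpowers_le.mpr x.2).trans hzle
      exact le_inf ((hxle.trans inf_le_left).trans (hR1syl.1.trans hβσ)) (hxle.trans inf_le_right)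
  · intro h
    have huH : u ∈ H := h ⟨huσ, hu.2⟩
    have huQ : u ∈ Subgroup.centralizer (Q : Set G) := hB1 ⟨huσ, huH⟩
    exact hunc (fun x hx => (Subgroup.mem_centralizer_iff.mp huQ) x hx)

end Cfsg.Agent.Lib.Helper68.BG
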